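import Mathlib
import Cfsg.Prelude.Def_PLocal
import Cfsg.Agent.Lib.PGroup.Basic

/-!
# Regular p-groups (P. Hall)
-/

set_option autoImplicit false

open scoped commutatorElement

namespace Cfsg.Agent.FGS79

variable {G : Type*} [Group G] [Finite G] {p : ℕ} [hp : Fact p.Prime]

/-- If `S = ⟨x, y⟩` is a `p`-group and `x` and `y` do not commute, then `⟨x, S'⟩` is proper. -/
theorem zpowers_sup_commutator_lt (hG : IsPGroup p G) {x y : G} (hxy : ¬ Commute x y) :
    Subgroup.zpowers x ⊔ ⁅Subgroup.closure ({x, y} : Set G), Subgroup.closure ({x, y} : Set G)⁆ <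
      Subgroup.closure ({x, y} : Set G) := by
  set S := Subgroup.closure ({x, y} : Set G)
  have hx : x ∈ S := Subgroup.subset_closure (Set.mem_insert _ _)
  have hle : Subgroup.zpowers x ⊔ ⁅S, S⁆ ≤ S :=
    sup_le (Subgroup.zpowers_le.mpr hx) (Subgroup.commutator_le_self S)
  refine lt_of_le_of_ne hle fun heq => hxy ?_
  have h1 : (Subgroup.zpowers (⟨x, hx⟩ : S)) ⊔ frattini S = ⊤ := by
    apply eq_top_iff.mpr
    refine le_trans ?_ (sup_le_sup_left (Cfsg.Agent.PGroup.commutator_le_frattini (hG.to_subgroup S)) _)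
    rw [← Subgroup.map_le_map_iff_of_injective S.subtype_injective, Subgroup.map_sup,
      MonoidHom.map_zpowers, ← MonoidHom.range_eq_map, Subgroup.range_subtype]
    have : ⁅S, S⁆ = (commutator S).map S.subtype := (Subgroup.map_subtype_commutator S).symm
    rw [← this]
    exact heq.ge
  have h2 := frattini_nongenerating h1
  have hy : (⟨y, Subgroup.subset_closure (by simp)⟩ : S) ∈ Subgroup.zpowers (⟨x, hx⟩ : S) := by
    rw [h2]; trivial
  obtain ⟨i, hi⟩ := Subgroup.mem_zpowers_iff.mp hy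
  have hi' : x ^ i = y := congrArg Subtype.val hi
  rw [← hi']
  exact Commute.self_zpow x i

omit [Finite G] hp in
theorem powerClosure_eq_bot {k : ℕ} {D : Subgroup G} (h : ∀ x ∈ D, x ^ p ^ k = 1) :
    Cfsg.powerClosure p k D = ⊥ := by
  rw [Cfsg.powerClosure, Subgroup.closure_eq_bot_iff]
  rintro _ ⟨x, hx, rfl⟩
  exact h x hx

/-- Equality of `p^k`-th powers in a regular group. -/
theorem pow_eq_iff_aux (hR : Cfsg.IsRegularPGroup p G) (k : ℕ) : ∀ (n : ℕ) (S : Subgroup G),
    Nat.card S = n → ∀ a ∈ S, ∀ b ∈ S, (a ^ p ^ k = b ^ p ^ k ↔ (a * b⁻¹) ^ p ^ k = 1) := by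
  intro n
  induction n using Nat.strong_induction_on with
  | _ n ih =>
  intro S hS a ha b hb
  set q := p ^ k
  by_cases hne : Subgroup.closure ({a, b} : Set G) = S
  swap
  · have hlt : Subgroup.closure ({a, b} : Set G) < S := lt_of_le_of_ne
      ((Subgroup.closure_le S).mpr (by simp [Set.insert_subset_iff, ha, hb])) hne
    have hc : Nat.card (Subgroup.closure ({a, b} : Set G)) < n := by
      rw [← hS]
      refine lt_of_le_of_ne (Nat.le_of_dvd Nat.card_pos (Subgroup.card_dvd_of_le hlt.le)) fun e => hlt.ne ?_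
      exact Subgroup.eq_of_le_of_card_ge hlt.le e.ge
    exact ih _ hc _ rfl a (Subgroup.subset_closure (by simp)) b (Subgroup.subset_closure (by simp))
  by_cases hab : Commute a b
  · rw [(hab.inv_right).mul_pow, inv_pow, mul_inv_eq_one]
  set D := ⁅S, S⁆
  -- killed elements of a proper subgroup form a subgroup
  have hclosed : ∀ M : Subgroup G, M < S → ∀ u ∈ M, ∀ v ∈ M, u ^ q = 1 → v ^ q = 1 → (u * v) ^ q = 1 := by
    intro M hM u hu v hv h1 h2
    have hc : Nat.card M < n := by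
      rw [← hS]
      refine lt_of_le_of_ne (Nat.le_of_dvd Nat.card_pos (Subgroup.card_dvd_of_le hM.le)) fun e => hM.ne ?_
      exact Subgroup.eq_of_le_of_card_ge hM.le e.ge
    simpa using (ih _ hc M rfl u hu v⁻¹ (inv_mem hv)).mp (by rw [inv_pow, h1, h2, inv_one])
  have hDS : D ≤ S := Subgroup.commutator_le_self S
  -- if the commutator of the generators is killed, so is the derived subgroup
  have hD : ∀ x y : G, Subgroup.closure ({x, y} : Set G) = S → ¬ Commute x y →
      ⁅x, y⁆ ^ q = 1 → ∀ d ∈ D, d ^ q = 1 := by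
    intro x y hS' hxy hc d hd
    have hlt := zpowers_sup_commutator_lt hR.1 hxy
    rw [hS'] at hlt
    have hDlt : D < S := lt_of_le_of_lt le_sup_right hlt
    let K : Subgroup G :=
      { carrier := {z | z ∈ D ∧ z ^ q = 1}
        mul_mem' := fun {u v} hu hv => ⟨mul_mem hu.1 hv.1, hclosed D hDlt u hu.1 v hv.1 hu.2 hv.2⟩
        one_mem' := ⟨one_mem D, one_pow q⟩
        inv_mem' := fun {u} hu => ⟨inv_mem hu.1, by rw [inv_pow, hu.2, inv_one]⟩ }
    suffices D ≤ K from (this hd).2
    -- all generators commute modulo `K`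
    have hKS : ∀ s ∈ S, ∀ z ∈ K, s * z * s⁻¹ ∈ K := by
      intro s hs z hz
      refine ⟨?_, by rw [conj_pow, hz.2, mul_one, mul_inv_cancel]⟩
      have : s * z * s⁻¹ = ⁅s, z⁆ * z := by simp [commutatorElement_def, mul_assoc]
      rw [this]
      exact mul_mem (Subgroup.commutator_mem_commutator hs (hDS hz.1)) hz.1
    have hxS : x ∈ S := hS' ▸ Subgroup.subset_closure (by simp)
    have hyS : y ∈ S := hS' ▸ Subgroup.subset_closure (by simp)
    have hKn : (K.subgroupOf S).Normal := ⟨fun z hz s => hKS s s.2 z hz⟩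
    let π := QuotientGroup.mk' (K.subgroupOf S)
    have hgen : Subgroup.closure ({(⟨x, hxS⟩ : S), ⟨y, hyS⟩} : Set S) = ⊤ := by
      apply Subgroup.map_injective S.subtype_injective
      rw [MonoidHom.map_closure, Set.image_pair, ← MonoidHom.range_eq_map, Subgroup.range_subtype]
      exact hS'
    have hcomm : ∀ u v : S ⧸ K.subgroupOf S, u * v = v * u := by
      have hπ : π ⟨x, hxS⟩ * π ⟨y, hyS⟩ = π ⟨y, hyS⟩ * π ⟨x, hxS⟩ := by
        have h1 : π ⁅(⟨x, hxS⟩ : S), ⟨y, hyS⟩⁆ = 1 := (QuotientGroup.eq_one_iff _).mpr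
          ⟨Subgroup.commutator_mem_commutator hxS hyS, hc⟩
        rw [map_commutatorElement, commutatorElement_eq_one_iff_mul_comm] at h1
        exact h1
      have htop : Subgroup.closure ({π ⟨x, hxS⟩, π ⟨y, hyS⟩} : Set _) = ⊤ := by
        rw [← Set.image_pair, ← MonoidHom.map_closure, hgen]
        exact Subgroup.map_top_of_surjective π (QuotientGroup.mk'_surjective _)
      have hC : ∀ w ∈ ({π ⟨x, hxS⟩, π ⟨y, hyS⟩} : Set _),
          ∀ u ∈ ({π ⟨x, hxS⟩, π ⟨y, hyS⟩} : Set _), w * u = u * w := by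
        intro w hw u hu
        rcases hw with rfl | rfl <;> rcases hu with rfl | rfl <;> first | rfl | exact hπ | exact hπ.symm
      intro u v
      have := Subgroup.isMulCommutative_closure (k := ({π ⟨x, hxS⟩, π ⟨y, hyS⟩} : Set _)) hC
      rw [htop] at this
      exact congrArg Subtype.val (this.is_comm.comm ⟨u, trivial⟩ ⟨v, trivial⟩)
    refine Subgroup.commutator_le.mpr fun u hu v hv => ?_
    have h1 : π ⁅(⟨u, hu⟩ : S), ⟨v, hv⟩⁆ = 1 := by
      rw [map_commutatorElement, commutatorElement_eq_one_iff_mul_comm]; exact hcomm _ _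
    have h2 : ⁅(⟨u, hu⟩ : S), (⟨v, hv⟩ : S)⁆ ∈ K.subgroupOf S := (QuotientGroup.eq_one_iff _).mp h1
    exact h2
  constructor
  · intro heq
    -- `⁅b, a⁆` is killed, inside `⟨a, S'⟩`
    have hlt := zpowers_sup_commutator_lt hR.1 hab
    rw [hne] at hlt
    set M := Subgroup.zpowers a ⊔ D
    have hc : Nat.card M < n := by
      rw [← hS]
      refine lt_of_le_of_ne (Nat.le_of_dvd Nat.card_pos (Subgroup.card_dvd_of_le hlt.le)) fun e => hlt.ne ?_
      exact Subgroup.eq_of_le_of_card_ge hlt.le e.ge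
    have haM : a ∈ M := Subgroup.mem_sup_left (Subgroup.mem_zpowers a)
    have hconjM : b * a * b⁻¹ ∈ M := by
      have : b * a * b⁻¹ = ⁅b, a⁆ * a := by simp [commutatorElement_def, mul_assoc]
      rw [this]
      exact mul_mem (Subgroup.mem_sup_right (Subgroup.commutator_mem_commutator hb ha)) haM
    have hpow : (b * a * b⁻¹) ^ q = a ^ q := by
      rw [conj_pow, heq, ← pow_succ', pow_succ, mul_inv_cancel_right]
    have hcq : ⁅b, a⁆ ^ q = 1 := (ih _ hc M rfl _ hconjM a haM).mp hpow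
    have hba : ¬ Commute b a := fun h => hab h.symm
    have hDq := hD b a (by rw [Set.pair_comm, hne]) hba hcq
    obtain ⟨c, hcm, hceq⟩ := hR.2 a b⁻¹ k
    have hcl : Subgroup.closure ({a, b⁻¹} : Set G) = S := by
      rw [← hne, ← Set.singleton_union, Subgroup.closure_union, Subgroup.closure_singleton_inv,
        ← Subgroup.closure_union, Set.singleton_union]
    rw [hcl, powerClosure_eq_bot hDq, Subgroup.mem_bot] at hcm
    rw [hceq, hcm, heq, inv_pow, mul_inv_cancel, mul_one]
  · intro hxq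
    set x := a * b⁻¹
    have hxb : ¬ Commute x b := by
      intro h
      apply hab
      have : a = x * b := by simp [x]
      rw [this]
      exact h.mul_left (Commute.refl b)
    have hcl : Subgroup.closure ({x, b} : Set G) = S := by
      refine le_antisymm ((Subgroup.closure_le S).mpr ?_) (hne ▸ (Subgroup.closure_le _).mpr ?_)
      · simp [Set.insert_subset_iff, hb, x, mul_mem ha (inv_mem hb)]
      · have hxm : x ∈ Subgroup.closure ({x, b} : Set G) := Subgroup.subset_closure (by simp)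
        have hbm : b ∈ Subgroup.closure ({x, b} : Set G) := Subgroup.subset_closure (by simp)
        simp only [Set.insert_subset_iff, Set.singleton_subset_iff, SetLike.mem_coe]
        refine ⟨?_, hbm⟩
        have := mul_mem hxm hbm
        simpa [x] using this
    have hlt := zpowers_sup_commutator_lt hR.1 hxb
    rw [hcl] at hlt
    set M := Subgroup.zpowers x ⊔ D
    have hxM : x ∈ M := Subgroup.mem_sup_left (Subgroup.mem_zpowers x)
    have hxS : x ∈ S := mul_mem ha (inv_mem hb)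
    have hconjM : b * x⁻¹ * b⁻¹ ∈ M := by
      have : b * x⁻¹ * b⁻¹ = ⁅b, x⁻¹⁆ * x⁻¹ := by simp [commutatorElement_def, mul_assoc]
      rw [this]
      exact mul_mem (Subgroup.mem_sup_right (Subgroup.commutator_mem_commutator hb (inv_mem hxS))) (inv_mem hxM)
    have hcq : ⁅x, b⁆ ^ q = 1 := by
      have : ⁅x, b⁆ = x * (b * x⁻¹ * b⁻¹) := by simp [commutatorElement_def, mul_assoc]
      rw [this]
      exact hclosed M hlt x hxM _ hconjM hxq (by rw [conj_pow, inv_pow, hxq, inv_one, mul_one, mul_inv_cancel])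
    have hDq := hD x b hcl hxb hcq
    obtain ⟨c, hcm, hceq⟩ := hR.2 x b k
    rw [hcl, powerClosure_eq_bot hDq, Subgroup.mem_bot] at hcm
    rw [show a = x * b by simp [x], hceq, hcm, hxq, one_mul, mul_one]

theorem pow_eq_iff (hR : Cfsg.IsRegularPGroup p G) (a b : G) (k : ℕ) :
    a ^ p ^ k = b ^ p ^ k ↔ (a * b⁻¹) ^ p ^ k = 1 :=
  pow_eq_iff_aux hR k _ ⊤ rfl a trivial b trivial

theorem pow_commute_iff (hR : Cfsg.IsRegularPGroup p G) (a b : G) (k : ℕ) :
    a ^ p ^ k * b = b * a ^ p ^ k ↔ (a⁻¹ * b⁻¹ * a * b) ^ p ^ k = 1 := by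
  have h1 : a ^ p ^ k * b = b * a ^ p ^ k ↔ (b⁻¹ * a * b) ^ p ^ k = a ^ p ^ k := by
    have e : (b⁻¹ * a * b) ^ p ^ k = b⁻¹ * a ^ p ^ k * b := by
      simpa using conj_pow (a := b⁻¹) (b := a) (i := p ^ k)
    rw [e, mul_assoc, inv_mul_eq_iff_eq_mul]
  have h2 : ((b⁻¹ * a * b) * a⁻¹) ^ p ^ k = a * ((a⁻¹ * b⁻¹ * a * b) ^ p ^ k) * a⁻¹ := by
    rw [← conj_pow]; congr 1; simp [mul_assoc]
  rw [h1, pow_eq_iff hR, h2, mul_inv_eq_one, mul_eq_left]

theorem exists_omega_subgroup (hR : Cfsg.IsRegularPGroup p G) (k : ℕ) :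
    ∃ H : Subgroup G, H.Characteristic ∧ (H : Set G) = {x : G | x ^ p ^ k = 1} := by
  let H : Subgroup G :=
    { carrier := {x | x ^ p ^ k = 1}
      mul_mem' := fun {u v} (hu : u ^ p ^ k = 1) (hv : v ^ p ^ k = 1) => by
        show (u * v) ^ p ^ k = 1
        have := (pow_eq_iff hR u v⁻¹ k).mp (by rw [inv_pow, hu, hv, inv_one])
        simpa using this
      one_mem' := one_pow _
      inv_mem' := fun {u} (hu : u ^ p ^ k = 1) => by
        show u⁻¹ ^ p ^ k = 1
        rw [inv_pow, hu, inv_one] }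
  refine ⟨H, Subgroup.characteristic_iff_comap_eq.mpr fun φ => ?_, rfl⟩
  ext x
  show (φ x) ^ p ^ k = 1 ↔ x ^ p ^ k = 1
  rw [← map_pow, EmbeddingLike.map_eq_one_iff]

end Cfsg.Agent.FGS79
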