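import Mathlib
import Cfsg.Agent.Lib.Transfer.Tate
import Cfsg.Prelude.Def_BaumannBlocks
import Cfsg.Agent.Lib.PGroup.Basic

/-!
# The theorem of Hall and Wielandt on transfer into the normalizer of a weakly closed subgroup
-/

set_option autoImplicit false

namespace Cfsg.Agent.FGS79

open Cfsg

section Cocycle

variable {G : Type*} [Group G] {N : Subgroup G} {A : Type*} [CommGroup A] (φ : N →* A)

theorem out_smul_inv_mul_mem (g : G) (q : G ⧸ N) : ((g • q).out)⁻¹ * g * q.out ∈ N := by
  have h : ((g • q).out : G ⧸ N) = ((g * q.out : G) : G ⧸ N) := by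
    rw [QuotientGroup.out_eq', ← smul_eq_mul, MulAction.Quotient.coe_smul_out]
  have h' := QuotientGroup.eq.mp h
  rwa [← mul_assoc] at h'

/-- The summand of the transfer at the coset `q`. -/
noncomputable def cocycle (g : G) (q : G ⧸ N) : A := φ ⟨_, out_smul_inv_mul_mem g q⟩

theorem cocycle_mul (g h : G) (q : G ⧸ N) :
    cocycle φ (g * h) q = cocycle φ g (h • q) * cocycle φ h q := by
  rw [cocycle, cocycle, cocycle, ← map_mul]
  congr 1
  apply Subtype.ext
  show ((g * h) • q).out⁻¹ * (g * h) * q.out =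
    (g • h • q).out⁻¹ * g * (h • q).out * ((h • q).out⁻¹ * h * q.out)
  rw [mul_smul]; group

theorem cocycle_one (q : G ⧸ N) : cocycle φ 1 q = 1 := by
  rw [cocycle, ← map_one φ]
  congr 1
  apply Subtype.ext
  simp

theorem cocycle_of_fixed {g : G} {q : G ⧸ N} (h : g • q = q) (hmem : q.out⁻¹ * g * q.out ∈ N) :
    cocycle φ g q = φ ⟨q.out⁻¹ * g * q.out, hmem⟩ := by
  rw [cocycle]
  congr 1
  apply Subtype.ext
  show (g • q).out⁻¹ * g * q.out = _
  rw [h]

theorem prod_cocycle_smul {H : Subgroup G} (X : Finset (G ⧸ N)) (hX : ∀ h ∈ H, ∀ q ∈ X, h • q ∈ X)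
    {h : G} (hh : h ∈ H) (F : G ⧸ N → A) : ∏ q ∈ X, F (h • q) = ∏ q ∈ X, F q := by
  refine Finset.prod_bij' (fun q _ => h • q) (fun q _ => h⁻¹ • q) (fun q hq => hX h hh q hq)
    (fun q hq => hX _ (inv_mem hh) q hq) ?_ ?_ ?_ <;> simp

/-- The transfer restricted to an invariant set of cosets. -/
noncomputable def setTransfer (H : Subgroup G) (X : Finset (G ⧸ N))
    (hX : ∀ h ∈ H, ∀ q ∈ X, h • q ∈ X) : H →* A :=
  MonoidHom.mk' (fun t => ∏ q ∈ X, cocycle φ (t : G) q) fun a b => by
    simp only [Subgroup.coe_mul, cocycle_mul, Finset.prod_mul_distrib]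
    rw [prod_cocycle_smul X hX b.2 (fun q => cocycle φ (a : G) q)]

theorem setTransfer_apply {H : Subgroup G} {X : Finset (G ⧸ N)} {hX : ∀ h ∈ H, ∀ q ∈ X, h • q ∈ X}
    (t : H) : setTransfer φ H X hX t = ∏ q ∈ X, cocycle φ (t : G) q := rfl

theorem prod_cocycle_orbit (g : G) (q : G ⧸ N) :
    ∀ f : ℕ, ∏ i ∈ Finset.range f, cocycle φ g (g ^ i • q) = cocycle φ (g ^ f) q := by
  intro f
  induction f with
  | zero => simp [cocycle_one]
  | succ f ih => rw [Finset.prod_range_succ, ih, pow_succ' g f, cocycle_mul, mul_comm]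

theorem prod_cocycle_mem (S : Subgroup A) (g : G) : ∀ (n : ℕ) (X : Finset (G ⧸ N)), X.card = n →
    (∀ q ∈ X, g • q ∈ X) → (∀ q ∈ X, ∃ f, 0 < f ∧ g ^ f • q = q) →
    (∀ q ∈ X, ∀ f, 0 < f → g ^ f • q = q → (∀ i, 0 < i → i < f → g ^ i • q ≠ q) →
      cocycle φ (g ^ f) q ∈ S) →
    ∏ q ∈ X, cocycle φ g q ∈ S := by
  classical
  intro n
  induction n using Nat.strong_induction_on with
  | _ n ih =>
    intro X hn hX hper hS
    rcases X.eq_empty_or_nonempty with rfl | ⟨q, hq⟩
    · simp
    have hmem : ∀ i : ℕ, g ^ i • q ∈ X := by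
      intro i
      induction i with
      | zero => simpa using hq
      | succ i ihi => rw [pow_succ', mul_smul]; exact hX _ ihi
    set f := Nat.find (hper q hq) with hf
    obtain ⟨hfpos, hffix⟩ := Nat.find_spec (hper q hq)
    have hfmin : ∀ i, 0 < i → i < f → g ^ i • q ≠ q := fun i h0 h1 h2 => Nat.find_min (hper q hq) h1 ⟨h0, h2⟩
    set O := (Finset.range f).image (fun i => g ^ i • q)
    have hOX : O ⊆ X := by
      intro x hx
      simp only [O, Finset.mem_image] at hx
      obtain ⟨i, -, rfl⟩ := hx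
      exact hmem i
    have hq' : q ∈ O := Finset.mem_image.mpr ⟨0, Finset.mem_range.mpr hfpos, by simp⟩
    have hinj : Set.InjOn (fun i => g ^ i • q) (Finset.range f : Set ℕ) := by
      intro i hi j hj hij
      simp only [Finset.coe_range, Set.mem_Iio] at hi hj
      by_contra hne
      have key : ∀ a b, a < b → b < f → g ^ a • q = g ^ b • q → False := by
        intro a b hab hb he
        apply hfmin (b - a) (by omega) (by omega)
        apply MulAction.injective (g ^ a)
        show g ^ a • g ^ (b - a) • q = g ^ a • q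
        rw [smul_smul, ← pow_add, Nat.add_sub_cancel' hab.le, he]
      rcases Nat.lt_or_ge i j with h | h
      · exact key i j h hj hij
      · exact key j i (by omega) hi hij.symm
    rw [← Finset.prod_sdiff hOX]
    refine mul_mem ?_ ?_
    · refine ih (X \ O).card ?_ (X \ O) rfl ?_ (fun x hx => hper x (Finset.sdiff_subset hx))
        (fun x hx => hS x (Finset.sdiff_subset hx))
      · rw [← hn]
        exact Finset.card_lt_card (Finset.ssubset_iff_of_subset Finset.sdiff_subset |>.mpr
          ⟨q, hq, fun h => (Finset.mem_sdiff.mp h).2 hq'⟩)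
      · intro x hx
        obtain ⟨hxX, hxO⟩ := Finset.mem_sdiff.mp hx
        refine Finset.mem_sdiff.mpr ⟨hX x hxX, fun h => hxO ?_⟩
        simp only [O, Finset.mem_image, Finset.mem_range] at h ⊢
        obtain ⟨i, hi, he⟩ := h
        have hx' : x = g ^ (i + f - 1) • q := by
          apply MulAction.injective g
          show g • x = g • g ^ (i + f - 1) • q
          rw [← he, smul_smul, ← pow_succ', Nat.sub_add_cancel (by omega), pow_add, mul_smul, hffix]
        rcases Nat.eq_zero_or_pos i with rfl | hi0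
        · exact ⟨f - 1, by omega, by rw [hx', Nat.zero_add]⟩
        · refine ⟨i - 1, by omega, ?_⟩
          rw [hx', show i + f - 1 = (i - 1) + f by omega, pow_add, mul_smul, hffix]
    · rw [Finset.prod_image hinj, prod_cocycle_orbit]
      exact hS q hq f hfpos hffix hfmin

/-- Translating the set of cosets conjugates the argument. -/
theorem prod_cocycle_translate [DecidableEq (G ⧸ N)] {H : Subgroup G} (X : Finset (G ⧸ N))
    (hX : ∀ h ∈ H, ∀ q ∈ X, h • q ∈ X) (z t : G) (ht : z⁻¹ * t * z ∈ H) :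
    ∏ q ∈ X.image (fun q => z • q), cocycle φ t q = ∏ q ∈ X, cocycle φ (z⁻¹ * t * z) q := by
  rw [Finset.prod_image (fun a _ b _ h => MulAction.injective z h)]
  have h : ∀ q, cocycle φ (z⁻¹ * t * z) q =
      cocycle φ z⁻¹ (t • z • q) * cocycle φ t (z • q) * cocycle φ z q := by
    intro q
    rw [cocycle_mul, cocycle_mul, mul_assoc]
  have h' : ∏ q ∈ X, cocycle φ z⁻¹ (t • z • q) = ∏ q ∈ X, cocycle φ z⁻¹ (z • q) := by
    rw [← prod_cocycle_smul X hX ht (fun q => cocycle φ z⁻¹ (z • q))]
    refine Finset.prod_congr rfl fun q _ => ?_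
    rw [← mul_smul, ← mul_smul]; congr 2; group
  rw [Finset.prod_congr rfl (fun q _ => h q), Finset.prod_mul_distrib, Finset.prod_mul_distrib, h']
  have h1 : (∏ q ∈ X, cocycle φ z⁻¹ (z • q)) * ∏ q ∈ X, cocycle φ z q = 1 := by
    rw [← Finset.prod_mul_distrib]
    refine Finset.prod_eq_one fun q _ => ?_
    rw [← cocycle_mul, inv_mul_cancel, cocycle_one]
  calc ∏ q ∈ X, cocycle φ t (z • q)
      = ((∏ q ∈ X, cocycle φ z⁻¹ (z • q)) * ∏ q ∈ X, cocycle φ z q) * ∏ q ∈ X, cocycle φ t (z • q) := by
        rw [h1, one_mul]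
    _ = _ := by rw [mul_right_comm]

end Cocycle

/-- Partial sums of a sequence of differences (binomial expansion). -/
theorem prod_range_diff {A : Type*} [CommGroup A] (a : ℕ → ℕ → A)
    (h : ∀ k i, a k (i + 1) = a k i * a (k + 1) i) : ∀ m k : ℕ,
    ∏ i ∈ Finset.range m, a k i = ∏ j ∈ Finset.range m, a (k + j) 0 ^ m.choose (j + 1) := by
  have tel : ∀ m k, a k m = a k 0 * ∏ i ∈ Finset.range m, a (k + 1) i := by
    intro m k
    induction m with
    | zero => simp
    | succ m ih => rw [h, ih, Finset.prod_range_succ, mul_assoc]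
  intro m
  induction m with
  | zero => intro k; simp
  | succ m ih =>
    intro k
    rw [Finset.prod_range_succ, tel, ih k, ih (k + 1)]
    conv_rhs => rw [Finset.prod_range_succ']
    simp only [Nat.choose_succ_succ' m, pow_add, Finset.prod_mul_distrib, Nat.choose_zero_right,
      pow_one, zero_add, add_zero, Nat.succ_eq_add_one]
    have hlast : ∏ i ∈ Finset.range m, a (k + (i + 1)) 0 ^ m.choose (i + 1 + 1) * 1 =
        ∏ i ∈ Finset.range m, a (k + (i + 1)) 0 ^ m.choose (i + 1 + 1) := by simp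
    have hsplit : ∏ j ∈ Finset.range m, a (k + j) 0 ^ m.choose (j + 1) =
        a k 0 ^ m.choose 1 * ∏ i ∈ Finset.range m, a (k + (i + 1)) 0 ^ m.choose (i + 1 + 1) := by
      have := Finset.prod_range_succ' (fun j => a (k + j) 0 ^ m.choose (j + 1)) m
      rw [Finset.prod_range_succ] at this
      simp only [Nat.choose_succ_self, pow_zero, mul_one, add_zero] at this
      rw [this, mul_comm]
    rw [hsplit]
    simp only [add_assoc, add_comm 1]
    simp only [mul_comm, mul_left_comm, mul_assoc]

/-- An invariant set is a union of orbits. -/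
theorem prod_orbit_mem {G α A : Type*} [Group G] [MulAction G α] [CommMonoid A] (S : Submonoid A)
    (H : Subgroup G) [Fintype H] [DecidableEq α] (F : α → A) :
    ∀ (n : ℕ) (X : Finset α), X.card = n → (∀ h ∈ H, ∀ q ∈ X, h • q ∈ X) →
    (∀ q ∈ X, (∏ r ∈ Finset.univ.image (fun h : H => (h : G) • q), F r) ∈ S) →
    ∏ q ∈ X, F q ∈ S := by
  intro n
  induction n using Nat.strong_induction_on with
  | _ n ih =>
    intro X hn hX hS
    rcases X.eq_empty_or_nonempty with rfl | ⟨q, hq⟩
    · simp
    set O := Finset.univ.image (fun h : H => (h : G) • q)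
    have hOX : O ⊆ X := by
      intro x hx
      simp only [O, Finset.mem_image, Finset.mem_univ, true_and] at hx
      obtain ⟨h, rfl⟩ := hx
      exact hX h h.2 q hq
    have hqO : q ∈ O := Finset.mem_image.mpr ⟨1, Finset.mem_univ _, by simp⟩
    rw [← Finset.prod_sdiff hOX]
    refine S.mul_mem ?_ (hS q hq)
    refine ih _ ?_ (X \ O) rfl ?_ (fun x hx => hS x (Finset.sdiff_subset hx))
    · rw [← hn]
      exact Finset.card_lt_card (Finset.ssubset_iff_of_subset Finset.sdiff_subset |>.mpr
        ⟨q, hq, fun h => (Finset.mem_sdiff.mp h).2 hqO⟩)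
    · intro h hh x hx
      obtain ⟨hxX, hxO⟩ := Finset.mem_sdiff.mp hx
      refine Finset.mem_sdiff.mpr ⟨hX h hh x hxX, fun hm => hxO ?_⟩
      simp only [O, Finset.mem_image, Finset.mem_univ, true_and] at hm ⊢
      obtain ⟨k, hk⟩ := hm
      refine ⟨⟨h, hh⟩⁻¹ * k, ?_⟩
      show (h⁻¹ * (k : G)) • q = x
      rw [mul_smul, hk, inv_smul_smul]

variable {G : Type*} [Group G] [Finite G] {p : ℕ} [hp : Fact p.Prime]

theorem sylow_le_normalizer_of_weaklyClosed (P : Sylow p G) {Q : Subgroup G}
    (hQ : IsWeaklyClosed Q (P : Subgroup G)) : (P : Subgroup G) ≤ Subgroup.normalizer (Q : Set G) := by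
  intro g hg
  rw [Subgroup.mem_normalizer_iff_map_conj_eq]
  refine hQ.2 g ?_
  rintro _ ⟨z, hz, rfl⟩
  exact mul_mem (mul_mem hg (hQ.1 hz)) (inv_mem hg)

/-- A `p`-element of a subgroup containing `P` is conjugate there into `P`. -/
theorem exists_conj_mem_sylow (P : Sylow p G) {N : Subgroup G} (hPN : (P : Subgroup G) ≤ N)
    {R : Subgroup G} (hR : IsPGroup p R) (hRN : R ≤ N) :
    ∃ n ∈ N, ∀ y ∈ R, n * y * n⁻¹ ∈ (P : Subgroup G) := by
  obtain ⟨S, hS⟩ := (hR.comap_subtype (K := N)).exists_le_sylow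
  obtain ⟨g, hg⟩ := MulAction.exists_smul_eq N S (P.subtype hPN)
  refine ⟨g, g.2, fun y hy => ?_⟩
  have h := Subgroup.smul_mem_pointwise_smul (⟨y, hRN hy⟩ : N) (MulAut.conj g) (S : Subgroup N) (hS hy)
  rw [← Sylow.coe_subgroup_smul, hg] at h
  exact h

/-- Hall–Wielandt: `P ∩ G' ≤ N_G(Q)'`. -/
theorem hallWielandt_inf_commutator (P : Sylow p G) (Q : Subgroup G)
    (hQ : IsWeaklyClosed Q (P : Subgroup G))
    (hE : ∀ u ∈ (P : Subgroup G), ∀ z ∈ Q, (fun y : G => y⁻¹ * z⁻¹ * y * z)^[p - 1] u = 1) :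
    (P : Subgroup G) ⊓ commutator G ≤
      ⁅Subgroup.normalizer (Q : Set G), Subgroup.normalizer (Q : Set G)⁆ := by
  classical
  set N := Subgroup.normalizer (Q : Set G) with hN
  have hPN : (P : Subgroup G) ≤ N := sylow_le_normalizer_of_weaklyClosed P hQ
  haveI : Fintype (G ⧸ N) := Fintype.ofFinite _
  set m := ordCompl[p] (Nat.card (Abelianization N))
  have hm : ¬ p ∣ m := Nat.not_dvd_ordCompl hp.out Nat.card_pos.ne'
  let φ : N →* Abelianization N := (powMonoidHom m).comp Abelianization.of
  set B : Subgroup (Abelianization N) := ((commutator G).subgroupOf N).map φ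
  set Bp : Subgroup (Abelianization N) := B.map (powMonoidHom p)
  have hBpB : Bp ≤ B := by rintro _ ⟨b, hb, rfl⟩; exact pow_mem hb p
  have hAm : ∀ (x : N) (k : ℕ), orderOf x = p ^ k → φ x = 1 → Abelianization.of x = 1 := by
    intro x k hk hx
    apply orderOf_eq_one_iff.mp
    have h1 : orderOf (Abelianization.of x) ∣ p ^ k := hk ▸ orderOf_map_dvd _ x
    have h2 : orderOf (Abelianization.of x) ∣ m := orderOf_dvd_of_pow_eq_one hx
    exact Nat.dvd_one.mp ((Nat.Coprime.pow_left k (hp.out.coprime_iff_not_dvd.mpr hm)) ▸ Nat.dvd_gcd h1 h2)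
  have hconj : ∀ (x y : N), φ (x * y * x⁻¹) = φ y := by
    intro x y; rw [map_mul, map_mul, map_inv, mul_inv_cancel_comm]
  -- the values of `φ` are `p`-elements
  have hpow : ∀ x : N, ∃ k, φ x ^ p ^ k = 1 := by
    intro x
    refine ⟨(Nat.card (Abelianization N)).factorization p, ?_⟩
    show (Abelianization.of x ^ m) ^ _ = 1
    rw [← pow_mul, mul_comm, Nat.ordProj_mul_ordCompl_eq_self]
    exact pow_card_eq_one'
  -- main claim
  have claim : ∀ n : ℕ, ∀ u : G, ∀ (huP : u ∈ (P : Subgroup G)), u ∈ commutator G → orderOf u = n →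
      φ ⟨u, hPN huP⟩ ∈ Bp := by
    intro n
    induction n using Nat.strong_induction_on with
    | _ n ih =>
    intro u huP huG hn
    -- the induction hypothesis for conjugates
    have ihN : ∀ (y : G) (hy : y ∈ N), y ∈ commutator G → (∃ k, orderOf y = p ^ k) → orderOf y < n →
        φ ⟨y, hy⟩ ∈ Bp := by
      rintro y hy hyG ⟨k, hk⟩ hlt
      have hR : IsPGroup p (Subgroup.zpowers y) := IsPGroup.of_card (n := k) (by rw [Nat.card_zpowers, hk])
      obtain ⟨g, hg, hgR⟩ := exists_conj_mem_sylow P hPN hR (Subgroup.zpowers_le.mpr hy)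
      have hy' := hgR y (Subgroup.mem_zpowers y)
      have := ih _ (by rw [← hn] at *; exact hlt) (g * y * g⁻¹) hy'
        ((inferInstance : (commutator G).Normal).conj_mem y hyG g)
        (orderOf_injective (MulAut.conj g).toMonoidHom (MulEquiv.injective _) y)
      rwa [show (⟨g * y * g⁻¹, hPN hy'⟩ : N) = ⟨g, hg⟩ * ⟨y, hy⟩ * ⟨g, hg⟩⁻¹ from rfl, hconj] at this
    let q₁ : G ⧸ N := ((1 : G) : G ⧸ N)
    have hq₁ : ∀ g ∈ N, g • q₁ = q₁ := fun g hg => by
      rw [MulAction.Quotient.smul_coe, smul_eq_mul, mul_one]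
      exact (QuotientGroup.eq.mpr (by simpa using inv_mem hg))
    -- the transfer kills `u`
    let V : G →* Abelianization N :=
      (setTransfer φ ⊤ Finset.univ (fun _ _ _ _ => Finset.mem_univ _)).comp Subgroup.topEquiv.symm.toMonoidHom
    have hV : ∏ q : G ⧸ N, cocycle φ u q = 1 := Abelianization.commutator_subset_ker V huG
    set M : Subgroup G := Subgroup.zpowers u ⊔ Q
    have hMP : M ≤ (P : Subgroup G) := sup_le (Subgroup.zpowers_le.mpr huP) hQ.1
    haveI : Fintype M := Fintype.ofFinite M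
    have hrest : ∏ q ∈ (Finset.univ.erase q₁), cocycle φ u q ∈ Bp := by
      refine prod_orbit_mem Bp.toSubmonoid M (fun q => cocycle φ u q) _ _ rfl ?_ ?_
      · intro h hh q hq
        refine Finset.mem_erase.mpr ⟨fun e => (Finset.mem_erase.mp hq).1 ?_, Finset.mem_univ _⟩
        rw [← inv_smul_smul h q, e, hq₁ _ (inv_mem (hPN (hMP hh)))]
      intro q₀ hq₀
      have hne : q₀ ≠ q₁ := (Finset.mem_erase.mp hq₀).1
      set O : Finset (G ⧸ N) := Finset.univ.image (fun h : M => (h : G) • q₀)
      have hO : ∀ r, r ∈ O ↔ ∃ h ∈ M, h • q₀ = r := fun r => by simp [O]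
      -- `Q` moves every coset other than `N`
      have hQmove : ¬ Q ≤ MulAction.stabilizer G q₀ := by
        intro hle
        apply hne
        set x := q₀.out
        have hxQ : ∀ z ∈ Q, x⁻¹ * z * x ∈ N := by
          intro z hz
          have h : z • q₀ = q₀ := hle hz
          rw [← QuotientGroup.out_eq' q₀, MulAction.Quotient.smul_coe, smul_eq_mul, QuotientGroup.eq] at h
          simpa [mul_assoc, x] using inv_mem h
        have hR : IsPGroup p (Q.map (MulAut.conj x⁻¹).toMonoidHom) := (P.2.to_le hQ.1).map _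
        obtain ⟨g, hg, hgR⟩ := exists_conj_mem_sylow P hPN hR (by
          rintro _ ⟨z, hz, rfl⟩; simpa using hxQ z hz)
        have hgx : g * x⁻¹ ∈ N := by
          rw [hN, Subgroup.mem_normalizer_iff_map_conj_eq]
          refine hQ.2 _ ?_
          rintro _ ⟨z, hz, rfl⟩
          have := hgR _ ⟨z, hz, rfl⟩
          simpa [mul_assoc] using this
        rw [← QuotientGroup.out_eq' q₀]
        refine QuotientGroup.eq.mpr ?_
        have := mul_mem (inv_mem hg) hgx
        simpa [x] using this
      set D := (MulAction.stabilizer G q₀).subgroupOf M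
      have hDne : D ≠ ⊤ := fun h => hQmove (le_trans le_sup_right (Subgroup.subgroupOf_eq_top.mp h))
      have hpM : IsPGroup p M := P.2.to_le hMP
      obtain ⟨T, hDT, hTn, hTi⟩ := Cfsg.Agent.PGroup.exists_le_index_eq_prime hpM hDne
      have hTstab : ∀ h : M, (h : G) • q₀ = q₀ → h ∈ T := fun h e => hDT e
      by_cases huT : (⟨u, Subgroup.mem_sup_left (Subgroup.mem_zpowers u)⟩ : M) ∈ T
      swap
      · -- `u` moves every point of the orbit
        refine prod_cocycle_mem φ Bp u _ O rfl ?_ ?_ ?_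
        · intro r hr
          obtain ⟨h, hh, rfl⟩ := (hO r).mp hr
          exact (hO _).mpr ⟨u * h, mul_mem (Subgroup.mem_sup_left (Subgroup.mem_zpowers u)) hh, mul_smul _ _ _⟩
        · exact fun r _ => ⟨orderOf u, orderOf_pos u, by rw [pow_orderOf_eq_one, one_smul]⟩
        · intro r hr f hf hfix hfmin
          obtain ⟨h, hh, rfl⟩ := (hO r).mp hr
          have hf1 : f ≠ 1 := by
            intro e; subst e
            apply huT
            rw [pow_one] at hfix
            have h1 : (⟨h, hh⟩ : M)⁻¹ * ⟨u, Subgroup.mem_sup_left (Subgroup.mem_zpowers u)⟩ * ⟨h, hh⟩ ∈ T := by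
              apply hTstab
              show (h⁻¹ * u * h) • q₀ = q₀
              rw [mul_smul, mul_smul, hfix, inv_smul_smul]
            have h2 := hTn.conj_mem _ h1 ⟨h, hh⟩
            have e : (⟨h, hh⟩ : M) * ((⟨h, hh⟩ : M)⁻¹ * ⟨u, Subgroup.mem_sup_left (Subgroup.mem_zpowers u)⟩ * ⟨h, hh⟩) * (⟨h, hh⟩ : M)⁻¹ = ⟨u, Subgroup.mem_sup_left (Subgroup.mem_zpowers u)⟩ := by group
            rwa [e] at h2
          set r := h • q₀
          have hmem : r.out⁻¹ * u ^ f * r.out ∈ N := by
            have := out_smul_inv_mul_mem (u ^ f) r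
            rwa [hfix] at this
          rw [cocycle_of_fixed φ hfix hmem]
          obtain ⟨k, hk⟩ := IsPGroup.iff_orderOf.mp P.2 ⟨u, huP⟩
          rw [Subgroup.orderOf_mk] at hk
          have hord : orderOf (r.out⁻¹ * u ^ f * r.out) = orderOf (u ^ f) := by
            have := orderOf_injective (MulAut.conj r.out⁻¹).toMonoidHom (MulEquiv.injective _) (u ^ f)
            simpa using this
          have hdvd : orderOf (u ^ f) ∣ p ^ k := hk ▸ orderOf_pow_dvd f
          refine ihN _ hmem ?_ ?_ ?_
          · simpa using (inferInstance : (commutator G).Normal).conj_mem _ (pow_mem huG f) r.out⁻¹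
          · obtain ⟨j, -, hj⟩ := (Nat.dvd_prime_pow hp.out).mp hdvd
            exact ⟨j, by rw [hord, hj]⟩
          · rw [hord, ← hn, orderOf_pow]
            refine Nat.div_lt_self (orderOf_pos u) ?_
            have hgcd : Nat.gcd (orderOf u) f ≠ 1 := by
              intro hg
              -- then `u` itself fixes `r`
              obtain ⟨y, -, hy⟩ := Nat.exists_mul_mod_eq_one_of_coprime (Nat.Coprime.symm hg) (by
                rcases Nat.lt_or_ge 1 (orderOf u) with h | h
                · exact h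
                · exfalso
                  have : u = 1 := orderOf_eq_one_iff.mp (le_antisymm h (orderOf_pos u))
                  exact hfmin 1 one_pos (by omega) (by simp [this]))
              have hu' : u = (u ^ f) ^ y := by
                rw [← pow_mul, ← pow_mod_orderOf, hy, pow_one]
              refine hfmin 1 one_pos (by omega) ?_
              rw [pow_one, hu']
              have : ∀ j, (u ^ f) ^ j • r = r := by
                intro j
                induction j with
                | zero => simp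
                | succ j ihj => rw [pow_succ, mul_smul, hfix, ihj]
              exact this y
            have := Nat.gcd_pos_of_pos_left f (orderOf_pos u)
            omega
      · -- `u` lies in the maximal subgroup `T`
        obtain ⟨z, hzQ, hzT⟩ : ∃ z : M, (z : G) ∈ Q ∧ z ∉ T := by
          by_contra hc
          push Not at hc
          have hT : T = ⊤ := by
            rw [eq_top_iff]
            have hgen : (Subgroup.zpowers u).subgroupOf M ⊔ Q.subgroupOf M = ⊤ := by
              rw [← Subgroup.subgroupOf_sup le_sup_left le_sup_right, Subgroup.subgroupOf_self]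
            rw [← hgen]
            refine sup_le ?_ (fun x hx => hc x hx)
            intro x hx
            obtain ⟨i, hi⟩ := Subgroup.mem_zpowers_iff.mp hx
            have : x = (⟨u, Subgroup.mem_sup_left (Subgroup.mem_zpowers u)⟩ : M) ^ i := Subtype.ext hi.symm
            rw [this]
            exact zpow_mem huT i
          rw [hT, Subgroup.index_top] at hTi
          exact hp.out.one_lt.ne hTi
        haveI := hTn
        haveI : Fintype T := Fintype.ofFinite T
        set TG : Subgroup G := T.map M.subtype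
        have hTG : ∀ (w : M), (w : G) ∈ TG ↔ w ∈ T := fun w =>
          Subgroup.mem_map_iff_mem M.subtype_injective
        set X : Finset (G ⧸ N) := Finset.univ.image (fun t : T => ((t : M) : G) • q₀)
        have hX : ∀ h ∈ TG, ∀ q ∈ X, h • q ∈ X := by
          rintro _ ⟨h, hh, rfl⟩ q hq
          simp only [X, Finset.mem_image, Finset.mem_univ, true_and] at hq ⊢
          obtain ⟨t, rfl⟩ := hq
          exact ⟨⟨h, hh⟩ * t, mul_smul _ _ _⟩
        let h := setTransfer φ TG X hX
        -- `z` generates `M` modulo `T`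
        have hcard : Nat.card (M ⧸ T) = p := hTi
        have hzne : (z : M ⧸ T) ≠ 1 := fun e => hzT ((QuotientGroup.eq_one_iff z).mp e)
        have hord : orderOf (z : M ⧸ T) = p := by
          rcases (Nat.dvd_prime hp.out).mp (hcard ▸ orderOf_dvd_natCard (z : M ⧸ T)) with e | e
          · exact absurd (orderOf_eq_one_iff.mp e) hzne
          · exact e
        have hgen : ∀ x : M, ∃ i, i < p ∧ (z ^ i)⁻¹ * x ∈ T := by
          intro x
          have htop : Subgroup.zpowers (z : M ⧸ T) = ⊤ :=
            Subgroup.eq_top_of_card_eq _ (by rw [Nat.card_zpowers, hord, hcard])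
          have hx : (x : M ⧸ T) ∈ Subgroup.zpowers (z : M ⧸ T) := by rw [htop]; trivial
          rw [← mem_powers_iff_mem_zpowers, mem_powers_iff_mem_range_orderOf, hord] at hx
          simp only [Finset.mem_image, Finset.mem_range] at hx
          obtain ⟨i, hi, hix⟩ := hx
          exact ⟨i, hi, QuotientGroup.eq.mp (by rw [QuotientGroup.mk_pow, hix])⟩
        have huniq : ∀ i j, i < p → j < p → (z ^ i)⁻¹ * z ^ j ∈ T → i = j := by
          intro i j hi hj he
          have h1 : (z : M ⧸ T) ^ i = (z : M ⧸ T) ^ j := by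
            rw [← QuotientGroup.mk_pow, ← QuotientGroup.mk_pow]
            exact QuotientGroup.eq.mpr he
          exact pow_injOn_Iio_orderOf (by rw [hord]; exact hi) (by rw [hord]; exact hj) h1
        have hOeq : O = (Finset.range p).biUnion (fun i => X.image (fun q => ((z : G) ^ i) • q)) := by
          ext r
          simp only [hO, Finset.mem_biUnion, Finset.mem_image, Finset.mem_range, X, Finset.mem_univ, true_and]
          constructor
          · rintro ⟨x, hx, rfl⟩
            obtain ⟨i, hi, hiT⟩ := hgen ⟨x, hx⟩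
            refine ⟨i, hi, _, ⟨⟨_, hiT⟩, rfl⟩, ?_⟩
            show (z : G) ^ i • (((z : G) ^ i)⁻¹ * x) • q₀ = x • q₀
            rw [smul_smul, mul_inv_cancel_left]
          · rintro ⟨i, -, _, ⟨t, rfl⟩, rfl⟩
            exact ⟨(z : G) ^ i * ((t : M) : G), mul_mem (pow_mem z.2 i) (t : M).2, mul_smul _ _ _⟩
        have hdisj : Set.PairwiseDisjoint (Finset.range p : Set ℕ) (fun i => X.image (fun q => ((z : G) ^ i) • q)) := by
          intro i hi j hj hij
          rw [Function.onFun, Finset.disjoint_left]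
          intro r h1 h2
          simp only [X, Finset.mem_image, Finset.mem_univ, true_and] at h1 h2
          obtain ⟨_, ⟨t, rfl⟩, e1⟩ := h1
          obtain ⟨_, ⟨t', rfl⟩, e2⟩ := h2
          apply hij
          apply huniq i j (by simpa using hi) (by simpa using hj)
          have hfix : ((t : M)⁻¹ * ((z ^ i)⁻¹ * z ^ j) * (t' : M)) ∈ T := by
            apply hTstab
            show (((t : M) : G)⁻¹ * (((z : G) ^ i)⁻¹ * (z : G) ^ j) * ((t' : M) : G)) • q₀ = q₀
            rw [mul_smul, mul_smul, mul_smul, e2, ← e1, inv_smul_smul, inv_smul_smul]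
          have := mul_mem (mul_mem t.2 hfix) (inv_mem t'.2)
          simpa [mul_assoc] using this
        show ∏ r ∈ O, cocycle φ u r ∈ Bp
        rw [hOeq, Finset.prod_biUnion hdisj]
        -- the Engel orbit of `u` under `z`
        let f : G → G := fun y => y⁻¹ * (z : G)⁻¹ * y * (z : G)
        have hmemT : ∀ k, f^[k] u ∈ TG ∧ f^[k] u ∈ commutator G := by
          intro k
          induction k with
          | zero => exact ⟨(hTG ⟨u, _⟩).mpr huT, huG⟩
          | succ k ihk =>
            rw [Function.iterate_succ_apply']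
            obtain ⟨⟨w, hw, hwe⟩, hc⟩ := ihk
            constructor
            · refine ⟨w⁻¹ * (z⁻¹ * w * z), mul_mem (inv_mem hw) ?_, ?_⟩
              · simpa using hTn.conj_mem w hw z⁻¹
              · rw [← hwe]
                simp [f, mul_assoc]
            · have h1 := mul_mem (inv_mem hc) ((inferInstance : (commutator G).Normal).conj_mem _ hc (z : G)⁻¹)
              simpa [f, mul_assoc] using h1
        have hconjT : ∀ i k : ℕ, ((z : G) ^ i)⁻¹ * f^[k] u * (z : G) ^ i ∈ TG := by
          intro i k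
          obtain ⟨w, hw, hwe⟩ := (hmemT k).1
          refine ⟨(z ^ i)⁻¹ * w * z ^ i, by simpa using hTn.conj_mem w hw (z ^ i)⁻¹, ?_⟩
          simp [← hwe]
        let a : ℕ → ℕ → Abelianization N := fun k i => h ⟨_, hconjT i k⟩
        have hrec : ∀ k i, a k (i + 1) = a k i * a (k + 1) i := by
          intro k i
          show h ⟨_, _⟩ = h ⟨_, _⟩ * h ⟨_, _⟩
          rw [← map_mul]
          congr 1
          apply Subtype.ext
          show ((z : G) ^ (i + 1))⁻¹ * f^[k] u * (z : G) ^ (i + 1) = (((z : G) ^ i)⁻¹ * f^[k] u * (z : G) ^ i) * (((z : G) ^ i)⁻¹ * f^[k + 1] u * (z : G) ^ i)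
          rw [Function.iterate_succ_apply' f k u, pow_succ']
          simp [f, mul_assoc]
        have hval : ∀ i, ∏ r ∈ X.image (fun q => ((z : G) ^ i) • q), cocycle φ u r = a 0 i :=
          fun i => prod_cocycle_translate φ X hX ((z : G) ^ i) u (hconjT i 0)
        rw [Finset.prod_congr rfl (fun i _ => hval i), prod_range_diff a hrec p 0]
        simp only [zero_add]
        -- values on `T ∩ G'` lie in `B`
        have hB : ∀ j, a j 0 ∈ B := by
          intro j
          refine prod_cocycle_mem φ B _ _ X rfl (fun q hq => hX _ (hconjT 0 j) q hq) ?_ ?_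
          · exact fun r _ => ⟨_, orderOf_pos _, by rw [pow_orderOf_eq_one, one_smul]⟩
          · intro r _ e _ hfix _
            set w := ((z : G) ^ 0)⁻¹ * f^[j] u * (z : G) ^ 0
            have hmem : r.out⁻¹ * w ^ e * r.out ∈ N := by
              have := out_smul_inv_mul_mem (w ^ e) r
              rwa [hfix] at this
            rw [cocycle_of_fixed φ hfix hmem]
            refine ⟨⟨_, hmem⟩, ?_, rfl⟩
            show r.out⁻¹ * w ^ e * r.out ∈ commutator G
            have hw : w ∈ commutator G := by simpa [w] using (hmemT j).2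
            simpa using (inferInstance : (commutator G).Normal).conj_mem _ (pow_mem hw e) r.out⁻¹
        refine Subgroup.prod_mem _ fun j hj => ?_
        rw [Finset.mem_range] at hj
        rcases (by omega : j + 1 < p ∨ j = p - 1) with hjp | rfl
        · obtain ⟨c, hc⟩ := hp.out.dvd_choose_self (Nat.succ_ne_zero j) hjp
          exact ⟨a j 0 ^ c, pow_mem (hB j) c, by rw [powMonoidHom_apply, hc, mul_comm, pow_mul]⟩
        · have hz : f^[p - 1] u = 1 := hE u huP z hzQ
          have : a (p - 1) 0 = 1 := by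
            show h ⟨_, _⟩ = 1
            rw [← map_one h]
            congr 1
            apply Subtype.ext
            simp [hz]
          rw [this, one_pow]
          exact one_mem _
    rw [← Finset.mul_prod_erase _ _ (Finset.mem_univ q₁)] at hV
    have hout : q₁.out ∈ N := by
      have h := QuotientGroup.eq.mp (QuotientGroup.out_eq' q₁)
      simpa using h
    have hc1 : cocycle φ u q₁ = φ ⟨u, hPN huP⟩ := by
      rw [cocycle_of_fixed φ (hq₁ u (hPN huP)) (mul_mem (mul_mem (inv_mem hout) (hPN huP)) hout)]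
      rw [← hconj ⟨q₁.out, hout⟩⁻¹ ⟨u, hPN huP⟩]
      congr 1
      apply Subtype.ext
      simp
    rw [hc1, ← eq_inv_iff_mul_eq_one] at hV
    rw [hV]
    exact inv_mem hrest
  have hBle : B ≤ Bp := by
    rintro _ ⟨x, hx, rfl⟩
    -- `x ^ s` is the `p`-part
    set d := orderOf x
    obtain ⟨e, c, hc, hd⟩ := Nat.exists_eq_pow_mul_and_not_dvd (orderOf_pos x).ne' p hp.out.ne_one
    obtain ⟨k, hk⟩ := hpow x
    have hy : IsPGroup p (Subgroup.zpowers ((x : G) ^ c)) := by
      rw [IsPGroup.iff_card]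
      obtain ⟨j, -, hj⟩ := (Nat.dvd_prime_pow hp.out).mp
        (orderOf_dvd_of_pow_eq_one (show ((x : G) ^ c) ^ p ^ e = 1 by
          rw [← pow_mul, mul_comm, ← hd, ← Subgroup.coe_pow, pow_orderOf_eq_one]; rfl))
      exact ⟨j, by rw [Nat.card_zpowers, hj]⟩
    obtain ⟨g, hg, hgR⟩ := exists_conj_mem_sylow P hPN hy (Subgroup.zpowers_le.mpr (pow_mem x.2 c))
    have hy' := hgR _ (Subgroup.mem_zpowers _)
    have h := claim _ _ hy' ((inferInstance : (commutator G).Normal).conj_mem _ (pow_mem hx c) g) rfl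
    rw [show (⟨g * (x : G) ^ c * g⁻¹, hPN hy'⟩ : N) = ⟨g, hg⟩ * x ^ c * ⟨g, hg⟩⁻¹ from rfl, hconj, map_pow] at h
    obtain ⟨t, ht⟩ : ∃ t, φ x = (φ x ^ c) ^ t := by
      by_cases h1 : p ^ k = 1
      · exact ⟨1, by rw [h1, pow_one] at hk; simp [hk]⟩
      obtain ⟨t, -, ht⟩ := Nat.exists_mul_mod_eq_one_of_coprime
        ((hp.out.coprime_iff_not_dvd.mpr hc).pow_left k).symm (by
          have := Nat.pos_of_ne_zero (pow_ne_zero k hp.out.ne_zero); omega)
      refine ⟨t, ?_⟩
      rw [← pow_mul, pow_eq_pow_mod _ hk, ht, pow_one]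
    rw [ht]
    exact pow_mem h t
  have hBbot : B = ⊥ := by
    rw [eq_bot_iff]
    intro b hb
    obtain ⟨x, hx, rfl⟩ := id hb
    by_contra hne
    have hdvd : p ∣ Nat.card B := by
      obtain ⟨k, hk⟩ := hpow x
      obtain ⟨j, -, hj⟩ := (Nat.dvd_prime_pow hp.out).mp (orderOf_dvd_of_pow_eq_one hk)
      have hj0 : j ≠ 0 := by
        rintro rfl
        exact hne (Subgroup.mem_bot.mpr (orderOf_eq_one_iff.mp (by simpa using hj)))
      exact (dvd_pow_self p hj0).trans (hj ▸ Subgroup.orderOf_dvd_natCard _ hb)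
    obtain ⟨w, hw⟩ := exists_prime_orderOf_dvd_card' p hdvd
    let π : B → B := fun v => ⟨(v : Abelianization N) ^ p, pow_mem v.2 p⟩
    have hsurj : Function.Surjective π := by
      intro v
      obtain ⟨y, hy, hye⟩ := hBle v.2
      exact ⟨⟨y, hy⟩, Subtype.ext hye⟩
    have hinj := Finite.injective_iff_surjective.mpr hsurj
    have : w = 1 := hinj (Subtype.ext (by
      show (w : Abelianization N) ^ p = (1 : Abelianization N) ^ p
      rw [one_pow, ← SubmonoidClass.coe_pow, ← hw, pow_orderOf_eq_one]; rfl))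
    rw [this, orderOf_one] at hw
    exact hp.out.one_lt.ne hw
  rintro u ⟨huP, huG⟩
  have h1 : φ ⟨u, hPN huP⟩ = 1 := Subgroup.mem_bot.mp (hBbot ▸ ⟨⟨u, hPN huP⟩, huG, rfl⟩)
  obtain ⟨k, hk⟩ := IsPGroup.iff_orderOf.mp P.2 ⟨u, huP⟩
  rw [Subgroup.orderOf_mk] at hk
  have h2 := hAm ⟨u, hPN huP⟩ k (by rw [Subgroup.orderOf_mk, hk]) h1
  have h3 : (⟨u, hPN huP⟩ : N) ∈ commutator N := (QuotientGroup.eq_one_iff _).mp h2
  rw [← Subgroup.map_subtype_commutator]
  exact ⟨_, h3, rfl⟩

/-- Hall–Wielandt: `O^p(N_G(Q)) = O^p(G) ∩ N_G(Q)`. -/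
theorem hallWielandt (P : Sylow p G) (Q : Subgroup G) (hQ : IsWeaklyClosed Q (P : Subgroup G))
    (hE : ∀ u ∈ (P : Subgroup G), ∀ z ∈ Q, (fun y : G => y⁻¹ * z⁻¹ * y * z)^[p - 1] u = 1) :
    Cfsg.pResidualOf p (Subgroup.normalizer (Q : Set G)) =
      Cfsg.pResidual p G ⊓ Subgroup.normalizer (Q : Set G) := by
  set N := Subgroup.normalizer (Q : Set G)
  have hPN : (P : Subgroup G) ≤ N := sylow_le_normalizer_of_weaklyClosed P hQ
  refine le_antisymm (le_inf (Cfsg.Agent.Transfer.map_pResidual_le N.subtype) (Subgroup.map_subtype_le _)) ?_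
  have ht := Cfsg.Agent.Transfer.sylow_inf_pResidual_eq_of_le_commutator P hPN (hallWielandt_inf_commutator P Q hQ hE)
  rintro g ⟨hg, hgN⟩
  obtain ⟨u, hu, y, hy, huy⟩ := Subgroup.mem_sup_of_normal_right.mp
    ((Cfsg.Agent.Transfer.sylow_sup_pResidual_eq_top (P.subtype hPN)).ge (Subgroup.mem_top (⟨g, hgN⟩ : N)))
  have hyG : (y : G) ∈ Cfsg.pResidual p G := Cfsg.Agent.Transfer.map_pResidual_le N.subtype ⟨y, hy, rfl⟩
  have hge : g = (u : G) * y := (congrArg Subtype.val huy).symm
  have huG : (u : G) ∈ Cfsg.pResidual p G := by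
    have := mul_mem (show g ∈ Cfsg.pResidual p G from hg) (inv_mem hyG)
    rwa [hge, mul_inv_cancel_right] at this
  have hu' : (u : G) ∈ (P : Subgroup G) ⊓ (Cfsg.pResidual p N).map N.subtype := ht ▸ ⟨hu, huG⟩
  rw [hge]
  exact mul_mem hu'.2 ⟨y, hy, rfl⟩

end Cfsg.Agent.FGS79
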