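import Mathlib

/-!
# Polynomial sequences in a group with a central filtration (Lazard, Leibman)

A sequence `g : ℕ → G` is polynomial when its iterated differences `n ↦ g(n)⁻¹g(n+1)` lie deeper and
deeper in the filtration.  They form a group, which gives the Hall–Petrescu formula.
-/

set_option autoImplicit false

open scoped commutatorElement

namespace Cfsg.Agent.FGS79

variable {G : Type*} [Group G]

/-- A descending filtration compatible with commutators, starting with the whole group. -/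
structure Filt (G : Type*) [Group G] where
  F : ℕ → Subgroup G
  anti : Antitone F
  comm : ∀ a b : ℕ, ∀ x ∈ F a, ∀ y ∈ F b, ⁅x, y⁆ ∈ F (a + b)

/-- The difference of a sequence. -/
def diffSeq (g : ℕ → G) : ℕ → G := fun n => (g n)⁻¹ * g (n + 1)

/-- The first `i` differences of `g` lie in the filtration, starting at `j`. -/
def Poly (Φ : Filt G) : ℕ → ℕ → (ℕ → G) → Prop
  | 0, j, g => ∀ n, g n ∈ Φ.F j
  | i + 1, j, g => (∀ n, g n ∈ Φ.F j) ∧ Poly Φ i (j + 1) (diffSeq g)

theorem Poly.mem {Φ : Filt G} : ∀ {i j : ℕ} {g : ℕ → G}, Poly Φ i j g → ∀ n, g n ∈ Φ.F j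
  | 0, _, _, h => h
  | _ + 1, _, _, h => h.1

theorem Poly.anti {Φ : Filt G} : ∀ {i j j' : ℕ} {g : ℕ → G}, j' ≤ j → Poly Φ i j g → Poly Φ i j' g
  | 0, _, _, _, hj, h => fun n => Φ.anti hj (h n)
  | _ + 1, _, _, _, hj, h => ⟨fun n => Φ.anti hj (h.1 n), Poly.anti (by omega) h.2⟩

theorem Poly.pred {Φ : Filt G} : ∀ {i j : ℕ} {g : ℕ → G}, Poly Φ (i + 1) j g → Poly Φ i j g
  | 0, _, _, h => h.1
  | _ + 1, _, _, h => ⟨h.1, Poly.pred h.2⟩

theorem poly_one {Φ : Filt G} : ∀ i j : ℕ, Poly Φ i j (fun _ => (1 : G))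
  | 0, j => fun _ => one_mem _
  | i + 1, j => ⟨fun _ => one_mem _, by
      have h : diffSeq (fun _ : ℕ => (1 : G)) = fun _ => 1 := by funext n; simp [diffSeq]
      rw [h]; exact poly_one i (j + 1)⟩

/-- Closure properties at level `i`. -/
structure PolyClosed (Φ : Filt G) (i : ℕ) : Prop where
  mul : ∀ {j g h}, Poly Φ i j g → Poly Φ i j h → Poly Φ i j (fun n => g n * h n)
  inv : ∀ {j g}, Poly Φ i j g → Poly Φ i j (fun n => (g n)⁻¹)
  comm : ∀ {a b g h}, Poly Φ i a g → Poly Φ i b h → Poly Φ i (a + b) (fun n => ⁅g n, h n⁆)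

theorem polyClosed (Φ : Filt G) : ∀ i, PolyClosed Φ i := by
  intro i
  induction i with
  | zero =>
    exact ⟨fun hg hh n => mul_mem (hg n) (hh n), fun hg n => inv_mem (hg n),
      fun hg hh n => Φ.comm _ _ _ (hg n) _ (hh n)⟩
  | succ i ih =>
    have shift : ∀ {j g}, Poly Φ (i + 1) j g → Poly Φ i j (fun n => g (n + 1)) := by
      intro j g hg
      have h := ih.mul (Poly.pred hg) (hg.2.anti (Nat.le_succ j))
      have e : (fun n => g n * diffSeq g n) = fun n => g (n + 1) := by funext n; simp [diffSeq]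
      exact e ▸ h
    refine ⟨?_, ?_, ?_⟩
    · intro j g h hg hh
      refine ⟨fun n => mul_mem (hg.1 n) (hh.1 n), ?_⟩
      have e : diffSeq (fun n => g n * h n) =
          fun n => diffSeq g n * ⁅(diffSeq g n)⁻¹, (h n)⁻¹⁆ * diffSeq h n := by
        funext n; simp [diffSeq, commutatorElement_def, mul_assoc]
      rw [e]
      exact ih.mul (ih.mul hg.2 ((ih.comm (ih.inv hg.2) (ih.inv (Poly.pred hh))).anti (by omega))) hh.2
    · intro j g hg
      refine ⟨fun n => inv_mem (hg.1 n), ?_⟩
      have e : diffSeq (fun n => (g n)⁻¹) =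
          fun n => ⁅g n, (diffSeq g n)⁻¹⁆ * (diffSeq g n)⁻¹ := by
        funext n; simp [diffSeq, commutatorElement_def, mul_assoc]
      rw [e]
      exact ih.mul ((ih.comm (Poly.pred hg) (ih.inv hg.2)).anti (by omega)) (ih.inv hg.2)
    · intro a b g h hg hh
      refine ⟨fun n => Φ.comm _ _ _ (hg.1 n) _ (hh.1 n), ?_⟩
      have cgh := ih.comm (Poly.pred hg) (Poly.pred hh)
      have cuh := (ih.comm hg.2 (Poly.pred hh)).anti (show a + b + 1 ≤ a + 1 + b by omega)
      have hA := (ih.comm (shift hg) hh.2).anti (show a + b + 1 ≤ a + (b + 1) by omega)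
      -- `P = ⁅g (n+1), h n⁆`
      have hP := ih.comm (shift hg) (Poly.pred hh)
      have hPA := (ih.comm (Poly.pred hh) hA).anti (show a + b + 1 ≤ b + (a + b + 1) by omega)
      have hgu := (ih.comm (Poly.pred hg) cuh).anti (show a + b + 1 ≤ a + (a + b + 1) by omega)
      have e : diffSeq (fun n => ⁅g n, h n⁆) = fun n =>
          ⁅⁅g n, h n⁆⁻¹, ⁅g n, ⁅diffSeq g n, h n⁆⁆ * ⁅diffSeq g n, h n⁆⁆ *
            (⁅g n, ⁅diffSeq g n, h n⁆⁆ * ⁅diffSeq g n, h n⁆) *
            (⁅h n, ⁅g (n + 1), diffSeq h n⁆⁆ * ⁅g (n + 1), diffSeq h n⁆) := by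
        funext n; simp [diffSeq, commutatorElement_def, mul_assoc]
      rw [e]
      have hB := ih.mul hgu cuh
      exact ih.mul (ih.mul ((ih.comm (ih.inv cgh) hB).anti (by omega)) hB) (ih.mul hPA hA)

theorem Poly.mul {Φ : Filt G} {i j : ℕ} {g h : ℕ → G} (hg : Poly Φ i j g) (hh : Poly Φ i j h) :
    Poly Φ i j (fun n => g n * h n) := (polyClosed Φ i).mul hg hh

theorem Poly.inv {Φ : Filt G} {i j : ℕ} {g : ℕ → G} (hg : Poly Φ i j g) :
    Poly Φ i j (fun n => (g n)⁻¹) := (polyClosed Φ i).inv hg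

/-- `n ↦ c ^ C(n, l)` is polynomial. -/
theorem poly_binomial {Φ : Filt G} (hF : Φ.F 0 = ⊤) {c : G} : ∀ (i l j : ℕ), c ∈ Φ.F (j + l) →
    Poly Φ i j (fun n => c ^ n.choose l) := by
  intro i
  induction i with
  | zero => intro l j hc n; exact pow_mem (Φ.anti (Nat.le_add_right j l) hc) _
  | succ i ih =>
    intro l j hc
    refine ⟨fun n => pow_mem (Φ.anti (Nat.le_add_right j l) hc) _, ?_⟩
    cases l with
    | zero =>
      have e : diffSeq (fun n => c ^ n.choose 0) = fun _ => (1 : G) := by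
        funext n; simp [diffSeq]
      rw [e]; exact poly_one i (j + 1)
    | succ l =>
      have e : diffSeq (fun n => c ^ n.choose (l + 1)) = fun n => c ^ n.choose l := by
        funext n
        simp only [diffSeq]
        rw [Nat.choose_succ_succ, add_comm (n.choose l), pow_add, inv_mul_cancel_left]
      rw [e]
      exact ih l (j + 1) (by rwa [Nat.succ_add_eq_add_succ])

/-- A polynomial sequence vanishing at `0, …, i-1` takes at `i` a value deep in the filtration. -/
theorem Poly.mem_of_vanish {Φ : Filt G} : ∀ {i j : ℕ} {g : ℕ → G}, Poly Φ i j g →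
    (∀ m < i, g m = 1) → g i ∈ Φ.F (j + i) := by
  intro i
  induction i with
  | zero => intro j g h _; exact h 0
  | succ i ih =>
    intro j g h hv
    have h0 : g i = 1 := hv i (Nat.lt_succ_self i)
    have := ih h.2 (fun m hm => by simp [diffSeq, hv m (by omega), hv (m + 1) (by omega)])
    simpa [diffSeq, h0, Nat.succ_add_eq_add_succ] using this

/-- A polynomial sequence with trivial `i`-th step, vanishing at `0, …, i-1`, is trivial. -/
theorem Poly.eq_one_of_vanish {Φ : Filt G} : ∀ {i j : ℕ} {g : ℕ → G}, Poly Φ i j g →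
    Φ.F (j + i) = ⊥ → (∀ m < i, g m = 1) → ∀ n, g n = 1 := by
  intro i
  induction i with
  | zero =>
    intro j g h hF _ n
    have := h n
    rwa [show j = j + 0 from rfl, hF, Subgroup.mem_bot] at this
  | succ i ih =>
    intro j g h hF hv n
    have hd := ih h.2 (by rwa [Nat.succ_add_eq_add_succ])
      (fun m hm => by simp [diffSeq, hv m (by omega), hv (m + 1) (by omega)])
    induction n with
    | zero => exact hv 0 (Nat.succ_pos i)
    | succ n ihn =>
      have := hd n
      simpa [diffSeq, ihn] using this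

/-- Hall–Petrescu: a polynomial sequence with `f 0 = f 1 = 1` in a filtration that is trivial from `m` on
is a product of powers `c ^ C(n, l)`, `2 ≤ l < m`, with `c ∈ F 2`. -/
theorem Poly.mem_of_binomials {Φ : Filt G} (hF : Φ.F 0 = ⊤) {m : ℕ} (hbot : Φ.F m = ⊥)
    {f : ℕ → G} (hf : Poly Φ m 0 f) (h0 : f 0 = 1) (h1 : f 1 = 1) (N : ℕ) (S : Subgroup G)
    (hS : ∀ l, 2 ≤ l → l < m → ∀ c ∈ Φ.F 2, c ^ N.choose l ∈ S) : f N ∈ S := by
  suffices h : ∀ k, ∀ f : ℕ → G, Poly Φ m 0 f → (∀ l < m - k, f l = 1) → (∀ l < 2, f l = 1) → f N ∈ S from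
    h m f hf (fun l hl => by omega) (fun l hl => by
      rcases (by omega : l = 0 ∨ l = 1) with rfl | rfl <;> assumption)
  intro k
  induction k with
  | zero =>
    intro f hf hv _
    rw [Poly.eq_one_of_vanish hf (by rwa [Nat.zero_add]) (fun l hl => hv l (by omega)) N]
    exact one_mem S
  | succ k ih =>
    intro f hf hv hv2
    by_cases hk : m - k ≤ 2
    · exact ih f hf (fun l hl => hv2 l (by omega)) hv2
    set l := m - (k + 1) with hl
    have hflm : ∀ i, i ≤ m → Poly Φ i 0 f := by
      have aux : ∀ d i, i + d = m → Poly Φ i 0 f := by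
        intro d
        induction d with
        | zero => intro i hi; exact (show i = m by omega) ▸ hf
        | succ d ihd => intro i hi; exact Poly.pred (ihd (i + 1) (by omega))
      intro i hi
      exact aux (m - i) i (by omega)
    have hc : f l ∈ Φ.F l := by
      have := Poly.mem_of_vanish (hflm l (by omega)) hv
      rwa [Nat.zero_add] at this
    have hc2 : f l ∈ Φ.F 2 := Φ.anti (by omega) hc
    have hg : Poly Φ m 0 (fun n => ((f l) ^ n.choose l)⁻¹ * f n) :=
      (poly_binomial hF m l 0 (by rwa [Nat.zero_add])).inv.mul hf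
    have hgN := ih _ hg (fun i hi => by
      rcases (by omega : i < l ∨ i = l) with h | rfl
      · rw [hv i h, Nat.choose_eq_zero_of_lt h]; simp
      · simp) (fun i hi => by
      rw [hv2 i hi, Nat.choose_eq_zero_of_lt (by omega)]; simp)
    have := mul_mem (hS l (by omega) (by omega) _ hc2) hgN
    simpa using this

end Cfsg.Agent.FGS79
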